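/- The right adjoint of derived direct image and internal Hom. -/
import Groth.Agent.FMTool.Proj
import Groth.Agent.DQCoh.Tensor
import Groth.Agent.DQCoh.Pullback
import Groth.Prelude.Def_Dual3

set_option autoImplicit false
set_option backward.isDefEq.respectTransparency false
set_option linter.style.haveILetI false
set_option maxHeartbeats 1000000
universe u

open CategoryTheory CategoryTheory.Limits AlgebraicGeometry

attribute [local instance] HasDerivedCategory.standard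

noncomputable section

namespace Groth.Agent.ShriekDual

variable {X Y : Scheme.{u}} (f : X ⟶ Y) [QuasiCompact f] [QuasiSeparated f] [DCoh.HasRpush f] [DCoh.HasLpull f]
  (hf : DCoh.RpushPreservesQCoh f) {a : DCoh.DQCoh Y ⥤ DCoh.DQCoh X} (adj : DCoh.RpushQ f hf ⊣ a)
  (P : CochainComplex Y.Modules ℤ) [DCoh.HasLTensorCx P] [DCoh.HasRSheafHom P]
  (P' : CochainComplex X.Modules ℤ) [DCoh.HasLTensorCx P'] [DCoh.HasRSheafHom P']

include adj in
/-- `f^! RHom(P, G) = RHom(Lf^* P, f^! G)` -/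
theorem rightAdjoint_RSheafHom (hP : DCoh.IsQCohD (DCoh.toD Y P))
    (hP' : Nonempty (DCoh.toD X P' ≅ (DCoh.Lpull f).obj (DCoh.toD Y P))) (G : DCoh.DQCoh Y)
    (hq : DCoh.IsQCohD ((DCoh.RSheafHom P).obj G.obj))
    (hq' : DCoh.IsQCohD ((DCoh.RSheafHom P').obj (a.obj G).obj)) :
    Nonempty ((a.obj ⟨(DCoh.RSheafHom P).obj G.obj, hq⟩).obj ≅ (DCoh.RSheafHom P').obj (a.obj G).obj) := by
  obtain ⟨eP⟩ := hP'
  have hPq : DCoh.IsQCohD (DCoh.toD X P') := fun i =>
    QC.isQCoh_of_iso ((DerivedCategory.homologyFunctor _ i).mapIso eP).symm (DQCoh.isQCohD_Lpull f _ hP i)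
  obtain ⟨π⟩ := FMTool.nonempty_projNat f P hP P' eP
  let T : DCoh.DQCoh X ⥤ DCoh.DQCoh X := ObjectProperty.lift _
    (ObjectProperty.ι (DCoh.IsQCohD (X := X)) ⋙ DCoh.LTensorCx P')
    (fun Z => DQCoh.isQCohD_LTensorCx P' hPq Z.obj Z.property)
  let AP := DCoh.RSheafHomAdj P
  let AP' := DCoh.RSheafHomAdj P'
  let RQ := DCoh.RpushQ f hf
  let ιY := (DCoh.IsQCohD (X := Y)).fullyFaithfulι
  let ιX := (DCoh.IsQCohD (X := X)).fullyFaithfulι
  let W₁ := a.obj ⟨(DCoh.RSheafHom P).obj G.obj, hq⟩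
  let W₂ : DCoh.DQCoh X := ⟨(DCoh.RSheafHom P').obj (a.obj G).obj, hq'⟩
  let q : ∀ Z : DCoh.DQCoh X, (RQ.obj (T.obj Z)).obj ≅ (DCoh.LTensorCx P).obj (RQ.obj Z).obj := fun Z => (π.app Z).symm
  let e : ∀ Z : DCoh.DQCoh X, (Z ⟶ W₁) ≃ (Z ⟶ W₂) := fun Z =>
    (adj.homEquiv Z _).symm.trans <| ιY.homEquiv.trans <| (AP.homEquiv _ _).symm.trans <|
      ((q Z).homFromEquiv.symm).trans <| ιY.homEquiv.symm.trans <| (adj.homEquiv (T.obj Z) G).trans <|
      ιX.homEquiv.trans <| (AP'.homEquiv _ _).trans <| (ιX.homEquiv (X := Z) (Y := W₂)).symm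
  refine ⟨(DCoh.IsQCohD (X := X)).ι.mapIso (Yoneda.ext W₁ W₂ (fun {Z} => e Z) (fun {Z} => (e Z).symm)
    (fun {Z} x => (e Z).symm_apply_apply x) (fun {Z} x => (e Z).apply_symm_apply x) fun {Z Z'} g x => ?_)⟩
  have hF : ∀ (Z : DCoh.DQCoh X) (x : Z ⟶ W₁), (DCoh.IsQCohD (X := X)).ι.map (e Z x) =
      AP'.homEquiv Z.obj (a.obj G).obj ((DCoh.IsQCohD (X := X)).ι.map (adj.homEquiv (T.obj Z) G
        (ιY.preimage ((q Z).hom ≫ (AP.homEquiv (RQ.obj Z).obj G.obj).symm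
          ((DCoh.IsQCohD (X := Y)).ι.map ((adj.homEquiv Z _).symm x)))))) := fun Z x => ιX.map_preimage _
  apply ιX.map_injective
  rw [hF, Functor.map_comp, hF]
  rw [Adjunction.homEquiv_naturality_left_symm, Functor.map_comp]
  erw [AP.homEquiv_naturality_left_symm]
  refine Eq.trans ?_ (AP'.homEquiv_naturality_left _ _)
  congr 1
  change _ = (DCoh.IsQCohD (X := X)).ι.map (T.map g) ≫ _
  rw [← Functor.map_comp, ← adj.homEquiv_naturality_left]
  congr 2
  apply ιY.map_injective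
  rw [Functor.map_comp, Functor.FullyFaithful.map_preimage, Functor.FullyFaithful.map_preimage]
  exact (π.inv.naturality_assoc g _).symm

end Groth.Agent.ShriekDual
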