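/- Duals of bounded below coherent objects are bounded above. -/
import Groth.Agent.DualSch.Biduality
import Groth.Agent.DualSch.DualVanish
import Groth.Agent.RelPCS.Calc
import Groth.Agent.KFlat.LTensorComp

set_option autoImplicit false
set_option backward.isDefEq.respectTransparency false
set_option linter.style.haveILetI false
set_option maxHeartbeats 1000000
universe u

open CategoryTheory CategoryTheory.Limits AlgebraicGeometry

attribute [local instance] HasDerivedCategory.standard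

noncomputable section

namespace Groth.Agent.ShriekDual

theorem exists_high (X : Scheme.{u}) [IsNoetherian X]
    [∀ (U : Scheme.{u}) (j : U ⟶ X) [IsOpenImmersion j], PreservesFiniteLimits (Scheme.Modules.restrictFunctor j)]
    [∀ (R : CommRingCat.{u}), PreservesFiniteLimits (tilde.functor R)]
    (K : DCoh.D X) (hK : Dual2.IsDualizingSch X K) (L : CochainComplex X.Modules ℤ)
    (hL : ∀ i : ℤ, Coh.IsQCoh (DCoh.HD (DCoh.toD X L) i)) (n : ℤ)
    (hn : ∀ i : ℤ, i < n → IsZero (DCoh.HD (DCoh.toD X L) i))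
    [DCoh.HasLTensorCx L] [DCoh.HasRSheafHom L] :
    ∃ b : ℤ, ((DCoh.RSheafHom L).obj K).IsLE b := by
  obtain ⟨I, hI, ⟨eI⟩⟩ := RHomCx.exists_kInjective_rep K
  haveI := hI
  haveI : ∀ (Y : Scheme.{u}) (C : CochainComplex Y.Modules ℤ), DCoh.HasLTensorCx C :=
    fun Y C => KFlat.hasLTensorCx C
  haveI : ∀ (Y : Scheme.{u}) (C : CochainComplex Y.Modules ℤ), DCoh.HasRSheafHom C :=
    fun Y C => RHomCx.hasRSheafHom C
  let Cl := (KFlat.resF X).obj L
  let q := (KFlat.resψ X).app L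
  obtain ⟨Φ⟩ := RHomCx.nonempty_LTensorCx_iso (K := Cl) (L := L) q
  obtain ⟨e₁⟩ := RHomCx.nonempty_RHom_iso Cl (KFlat.isKFlat_resF L) I
  haveI := RHomCx.quasiIso_gmap q I
  let e₂ : (DCoh.RSheafHom L).obj K ≅ DerivedCategory.Q.obj ((RHomCx.GE L).obj I) :=
    (DCoh.RSheafHom L).mapIso eI.symm ≪≫
      (((DCoh.RSheafHomAdj L).ofNatIsoLeft Φ.symm).rightAdjointUniq (DCoh.RSheafHomAdj Cl)).app _ ≪≫ e₁ ≪≫
      (asIso (DerivedCategory.Q.map ((RHomCx.gmap q).app I))).symm
  -- finitely many charts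
  have chart : ∀ x : X, ∃ (A : Type u) (_ : CommRing A) (j : Spec (CommRingCat.of A) ⟶ X) (_ : IsOpenImmersion j)
      (b : ℤ), x ∈ j.opensRange ∧ ∀ i, b < i →
        IsZero ((Scheme.Modules.restrictFunctor j.opensRange.ι).obj (((RHomCx.GE L).obj I).homology i)) := by
    intro x
    obtain ⟨A, j, hj, hx, -⟩ := Scheme.exists_affine_mem_range_and_range_subset (X := X) (U := ⊤) (x := x) trivial
    obtain ⟨ω, hω, ⟨e⟩⟩ := hK A j
    obtain ⟨R⟩ := DualCx.nonempty_rep hω
    let eR := (DCoh.restrictD j).mapIso eI ≪≫ e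
    refine ⟨A, inferInstance, j, hj, R.b - n, hx, fun i hi => ?_⟩
    obtain ⟨d⟩ := DualSch.Bi.nonempty_rC_homology (j := j) ((RHomCx.GE L).obj I) i
    refine (DualSch.Bi.isZero_GE_high I hω R eR L n (fun k hk => DualSch.Bi.isZero_rC_of_isZero L k
      ((hn k hk).of_iso (DualSch.Bi.hdQ L k).symm)) (fun k => ?_) i hi).of_iso d.symm
    obtain ⟨d'⟩ := DualSch.Bi.nonempty_rC_homology (j := j) L k
    exact QC.isQCoh_of_iso d'.symm (QC.isQCoh_restrict _ (QC.isQCoh_of_iso (DualSch.Bi.hdQ L k) (hL k)))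
  choose A hA j hj b hx hb using chart
  obtain ⟨s, hs⟩ := isCompact_univ.elim_finite_subcover (fun x : X => ((j x).opensRange : Set X))
    (fun x => (j x).opensRange.2) fun x _ => Set.mem_iUnion.2 ⟨x, hx x⟩
  refine ⟨((s.sup fun x => (b x).toNat : ℕ) : ℤ), (DerivedCategory.isLE_iff _ _).2 fun i hi => ?_⟩
  refine IsZero.of_iso ?_ ((DerivedCategory.homologyFunctor _ i).mapIso e₂ ≪≫ DualSch.Bi.hdQ _ i)
  have hcov : ∀ y : X, ∃ x ∈ s, y ∈ (j x).opensRange := fun y => by
    simpa using hs (Set.mem_univ y)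
  choose c hc hyc using hcov
  refine RelPCS.isZero_of_cover _ (fun y => (j (c y)).opensRange.ι) (fun y => ⟨⟨y, hyc y⟩, rfl⟩) fun y => hb (c y) i ?_
  have h1 : ((b (c y)).toNat : ℤ) ≤ ((s.sup fun x => (b x).toNat : ℕ) : ℤ) := by
    exact_mod_cast Finset.le_sup (f := fun x => (b x).toNat) (hc y)
  omega

end Groth.Agent.ShriekDual
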