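/- Internal Hom and restriction along open immersions. -/
import Groth.Agent.RHomCx.RestrictD
import Groth.Agent.RHomCx.DualMain
import Groth.Agent.RigidD.Main
import Groth.Agent.PerfGen.Open
import Groth.Agent.KFlat.TorFlat

set_option autoImplicit false
set_option backward.isDefEq.respectTransparency false
set_option linter.style.haveILetI false
set_option maxHeartbeats 1000000
universe u

open CategoryTheory CategoryTheory.Limits AlgebraicGeometry

attribute [local instance] HasDerivedCategory.standard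

noncomputable section

namespace Groth.Agent.ShriekDual

open Groth.Agent.DQCoh (RD rdComp rdCongr)

/-- restriction along an isomorphism is an equivalence -/
def rdEquiv {V W : Scheme.{u}} (e : V ≅ W) : DCoh.D W ≌ DCoh.D V :=
  CategoryTheory.Equivalence.mk (RD e.hom) (RD e.inv)
    ((PerfGen.rdId W).symm ≪≫ rdCongr e.inv_hom_id.symm ≪≫ rdComp e.inv e.hom)
    ((rdComp e.hom e.inv).symm ≪≫ rdCongr e.hom_inv_id ≪≫ PerfGen.rdId V)

variable {X : Scheme.{u}}

/-- restriction along an isomorphism commutes with internal Hom -/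
theorem nonempty_RSheafHom_iso {V : Scheme.{u}} (e : V ≅ X) (K : CochainComplex X.Modules ℤ)
    [DCoh.HasLTensorCx K] [DCoh.HasRSheafHom K] (K' : CochainComplex V.Modules ℤ)
    [DCoh.HasLTensorCx K'] [DCoh.HasRSheafHom K']
    (hK : Nonempty (DCoh.toD V K' ≅ (RD e.hom).obj (DCoh.toD X K))) (M : DCoh.D X) :
    Nonempty ((RD e.hom).obj ((DCoh.RSheafHom K).obj M) ≅ (DCoh.RSheafHom K').obj ((RD e.hom).obj M)) := by
  obtain ⟨eK⟩ := hK
  let Kf := (KFlat.resF X).obj K
  let q := (KFlat.resψ X).app K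
  haveI := KFlat.hasLTensorCx Kf
  haveI := KFlat.hasLTensorCx (((Scheme.Modules.pullback e.hom).mapHomologicalComplex (ComplexShape.up ℤ)).obj Kf)
  obtain ⟨θ⟩ := RigidD.nonempty_restrict_LT e.hom (KFlat.isKFlat_resF K)
  obtain ⟨c₁⟩ := RHomCx.nonempty_LTensorCx_congr (A := K) (B := Kf) (asIso (DerivedCategory.Q.map q)).symm
  obtain ⟨c₂⟩ := RHomCx.nonempty_LTensorCx_congr
    (A := ((Scheme.Modules.pullback e.hom).mapHomologicalComplex (ComplexShape.up ℤ)).obj Kf) (B := K')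
    (DerivedCategory.Q.mapIso ((NatIso.mapHomologicalComplex (Scheme.Modules.restrictFunctorIsoPullback e.hom)
        (ComplexShape.up ℤ)).app Kf).symm ≪≫ (DQCoh.rdIso e.hom Kf).symm ≪≫
      (RD e.hom).mapIso (asIso (DerivedCategory.Q.map q)) ≪≫ eK.symm)
  let E := rdEquiv e
  let F := RD e.hom
  let φ : DCoh.LTensorCx K ⋙ F ≅ F ⋙ DCoh.LTensorCx K' :=
    Functor.isoWhiskerRight c₁ _ ≪≫ θ ≪≫ Functor.isoWhiskerLeft _ c₂
  let ψ : E.inverse ⋙ DCoh.LTensorCx K ≅ DCoh.LTensorCx K' ⋙ E.inverse :=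
    (Functor.rightUnitor _).symm ≪≫ Functor.isoWhiskerLeft _ E.unitIso ≪≫
      Functor.associator _ _ _ ≪≫ Functor.isoWhiskerLeft _ (Functor.associator _ _ _).symm ≪≫
      Functor.isoWhiskerLeft _ (Functor.isoWhiskerRight φ _) ≪≫
      Functor.isoWhiskerLeft _ (Functor.associator _ _ _) ≪≫ (Functor.associator _ _ _).symm ≪≫
      Functor.isoWhiskerRight E.counitIso _ ≪≫ Functor.leftUnitor _
  let a : E.inverse ⊣ F := E.symm.toAdjunction
  exact ⟨(((a.comp (DCoh.RSheafHomAdj K)).ofNatIsoLeft ψ).rightAdjointUniq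
    ((DCoh.RSheafHomAdj K').comp a)).app M⟩

/-- restriction along an open immersion commutes with internal Hom -/
theorem nonempty_RSheafHom_restrict {U : Scheme.{u}} (j : U ⟶ X) [IsOpenImmersion j]
    (K : CochainComplex X.Modules ℤ) [DCoh.HasLTensorCx K] [DCoh.HasRSheafHom K]
    (K' : CochainComplex U.Modules ℤ) [DCoh.HasLTensorCx K'] [DCoh.HasRSheafHom K']
    (hK : Nonempty (DCoh.toD U K' ≅ (DCoh.restrictD j).obj (DCoh.toD X K))) (M : DCoh.D X) :
    Nonempty ((DCoh.restrictD j).obj ((DCoh.RSheafHom K).obj M) ≅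
      (DCoh.RSheafHom K').obj ((DCoh.restrictD j).obj M)) := by
  obtain ⟨eK⟩ := hK
  let V := j.opensRange
  let KV := (DCoh.restrictCx V).obj K
  haveI := KFlat.hasLTensorCx KV
  haveI := RHomCx.hasRSheafHom KV
  obtain ⟨r⟩ := RHomCx.nonempty_restrict_RSheafHom V K M
  let d : RD j ≅ RD V.ι ⋙ RD j.isoOpensRange.hom :=
    rdCongr j.isoOpensRange_hom_ι.symm ≪≫ rdComp j.isoOpensRange.hom V.ι
  obtain ⟨s⟩ := nonempty_RSheafHom_iso j.isoOpensRange KV K'
    ⟨eK ≪≫ d.app _ ≪≫ (RD j.isoOpensRange.hom).mapIso (DQCoh.rdIso V.ι K)⟩ ((DCoh.restrictD V.ι).obj M)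
  exact ⟨d.app _ ≪≫ (RD j.isoOpensRange.hom).mapIso r ≪≫ s ≪≫ (DCoh.RSheafHom K').mapIso (d.app M).symm⟩

end Groth.Agent.ShriekDual
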