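/- Upper shriek through duality, on schemes. -/
import Groth.Agent.ShriekDual.Bound
import Groth.Agent.ShriekDual.Yoneda
import Groth.Agent.ShriekDual.Restrict
import Groth.Agent.S1823
import Groth.Agent.S1116
import Groth.Agent.DQCoh.PCTensor
import Groth.Agent.PerfPush.Fibre
import Groth.Agent.DerPerf.PseudoCoh
import Groth.Agent.DCohShriek.DualizingMain

set_option autoImplicit false
set_option backward.isDefEq.respectTransparency false
set_option linter.style.haveILetI false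
set_option maxHeartbeats 1000000
universe u

open CategoryTheory CategoryTheory.Limits AlgebraicGeometry

attribute [local instance] HasDerivedCategory.standard

noncomputable section

namespace Groth.Agent.ShriekDual

variable {X Y : Scheme.{u}}

/-- the derived pullback along a composite with an open immersion -/
theorem nonempty_lpull_open {Z : Scheme.{u}} (p : Z ⟶ Y) (j : X ⟶ Z) [IsOpenImmersion j] (f : X ⟶ Y)
    (w : j ≫ p = f) [DCoh.HasLpull f] [DCoh.HasLpull p] (N : DCoh.D Y) :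
    Nonempty ((DCoh.Lpull f).obj N ≅ (DCoh.restrictD j).obj ((DCoh.Lpull p).obj N)) := by
  obtain ⟨P, hP, -, ⟨e⟩⟩ := KFlat.exists_isKFlat_rep N
  let eM : Scheme.Modules.pullback f ≅ Scheme.Modules.pullback p ⋙ Scheme.Modules.restrictFunctor j :=
    Scheme.Modules.pullbackCongr w.symm ≪≫ (Scheme.Modules.pullbackComp j p).symm ≪≫
      Functor.isoWhiskerLeft _ (Scheme.Modules.restrictFunctorIsoPullback j).symm
  let P₁ := ((Scheme.Modules.pullback p).mapHomologicalComplex (ComplexShape.up ℤ)).obj P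
  exact ⟨(DCoh.Lpull f).mapIso e.symm ≪≫ KFlat.lpullIso f hP ≪≫
    DerivedCategory.Q.mapIso ((NatIso.mapHomologicalComplex eM (ComplexShape.up ℤ)).app P ≪≫
      (Functor.mapHomologicalComplexCompIso (Iso.refl (Scheme.Modules.pullback p ⋙ Scheme.Modules.restrictFunctor j))
        (ComplexShape.up ℤ)).symm.app P) ≪≫
    ((Scheme.Modules.restrictFunctor j).mapDerivedCategoryFactors.app P₁).symm ≪≫
    (DCoh.restrictD j).mapIso ((KFlat.lpullIso p hP).symm ≪≫ (DCoh.Lpull p).mapIso e)⟩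

theorem main [IsNoetherian Y] {f : X ⟶ Y} (c : DEt.Compactification f) [DCoh.HasRpush c.fbar]
    (hc : DCoh.RpushPreservesQCoh c.fbar) {a : DCoh.DQCoh Y ⥤ DCoh.DQCoh c.Xbar}
    (adj : DCoh.RpushQ c.fbar hc ⊣ a)
    [∀ (U V : Scheme.{u}) (j : U ⟶ V) [IsOpenImmersion j], PreservesFiniteLimits (Scheme.Modules.restrictFunctor j)]
    [∀ (R : CommRingCat.{u}), PreservesFiniteLimits (tilde.functor R)] [DCoh.HasLpull f]
    (K : DCoh.DQCoh Y) (c₀ : ℤ) (hK : ∀ i : ℤ, i < c₀ → IsZero (DCoh.HD K.obj i))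
    (hKd : Dual2.IsDualizingSch Y K.obj) (M : DCoh.DQCoh Y) (c₁ : ℤ)
    (hM : ∀ i : ℤ, i < c₁ → IsZero (DCoh.HD M.obj i)) (hMc : ∀ i : ℤ, Coh.IsCoh (DCoh.HD M.obj i))
    (M' : CochainComplex Y.Modules ℤ) (hM' : Nonempty (DCoh.toD Y M' ≅ M.obj)) [DCoh.HasLTensorCx M']
    [DCoh.HasRSheafHom M'] (N' : CochainComplex X.Modules ℤ)
    (hN' : Nonempty (DCoh.toD X N' ≅ (DCoh.Lpull f).obj ((DCoh.RSheafHom M').obj K.obj)))
    [DCoh.HasLTensorCx N'] [DCoh.HasRSheafHom N'] :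
    Nonempty ((Dual3.shriekC c a).obj M ≅ (DCoh.RSheafHom N').obj ((Dual3.shriekC c a).obj K)) := by
  obtain ⟨eM⟩ := hM'
  obtain ⟨eN⟩ := hN'
  haveI : IsNoetherian c.Xbar := DCohShriek.isNoetherian_of_proper c.fbar
  haveI : DCoh.HasLpull c.fbar := KFlat.hasLpull c.fbar
  have hM'c : ∀ i, Coh.IsCoh (DCoh.HD (DCoh.toD Y M') i) := fun i =>
    K0Coh.isCoh_of_iso ((DerivedCategory.homologyFunctor _ i).mapIso eM.symm) (hMc i)
  obtain ⟨hN0c, hbid⟩ := Groth.Agent.S1823.result Y K.obj hKd M' hM'c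
  obtain ⟨b, hb⟩ := exists_high Y K.obj hKd M' (fun i => (hM'c i).1) c₁
    fun i hi => (hM i hi).of_iso ((DerivedCategory.homologyFunctor _ i).mapIso eM)
  haveI := hb
  let N0 := (DCoh.RSheafHom M').obj K.obj
  -- a representative of the dual on `Y`
  let C0 := DerivedCategory.Q.objPreimage N0
  let e0 : DCoh.toD Y C0 ≅ N0 := DerivedCategory.Q.objObjPreimageIso N0
  haveI := KFlat.hasLTensorCx C0
  haveI := RHomCx.hasRSheafHom C0
  obtain ⟨eB⟩ := hbid C0 ⟨e0⟩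
  let eMK : (DCoh.RSheafHom C0).obj K.obj ≅ M.obj := eB ≪≫ eM
  have hq : DCoh.IsQCohD ((DCoh.RSheafHom C0).obj K.obj) := fun i =>
    QC.isQCoh_of_iso ((DerivedCategory.homologyFunctor _ i).mapIso eMK).symm (M.property i)
  have hC0 : DCoh.IsQCohD (DCoh.toD Y C0) := fun i =>
    QC.isQCoh_of_iso ((DerivedCategory.homologyFunctor _ i).mapIso e0).symm (hN0c i).1
  -- its pullback to the compactification
  let L0 := (DCoh.Lpull c.fbar).obj (DCoh.toD Y C0)
  let C1 := DerivedCategory.Q.objPreimage L0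
  let e1 : DCoh.toD c.Xbar C1 ≅ L0 := DerivedCategory.Q.objObjPreimageIso L0
  haveI := KFlat.hasLTensorCx C1
  haveI := RHomCx.hasRSheafHom C1
  have hpc : ∀ m, DCoh.IsPseudoCoherentD m L0 := fun m =>
    DerPerf.isPseudoCoherent_Lpull c.fbar m _ (DQCoh.pc_of_isCohD _
      (fun i => K0Coh.isCoh_of_iso ((DerivedCategory.homologyFunctor _ i).mapIso e0.symm) (hN0c i)) b
      (fun i hi => (DerivedCategory.isZero_of_isLE N0 b i hi).of_iso
        ((DerivedCategory.homologyFunctor _ i).mapIso e0)) m)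
  haveI : (DCoh.toD Y C0).IsLE b := DerivedCategory.TStructure.t.isLE_of_iso e0.symm b
  haveI : L0.IsLE b := PerfPush.isLE_lpull c.fbar _ b
  haveI : (DCoh.toD c.Xbar C1).IsLE b := DerivedCategory.TStructure.t.isLE_of_iso e1.symm b
  have hC1 : DCoh.IsCohD (DCoh.toD c.Xbar C1) := fun i =>
    K0Coh.isCoh_of_iso ((DerivedCategory.homologyFunctor _ i).mapIso e1.symm) (DQCoh.isCohD_of_pc L0 hpc i)
  obtain ⟨m, hm⟩ := DCohShriek.exists_bdd_adjoint c.fbar adj K c₀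
    ((DerivedCategory.isGE_iff _ _).2 fun i hi => hK i hi)
  haveI := hm
  have haK : DCoh.IsCohD (a.obj K).obj := fun i =>
    DCohShriek.coh_adjoint c.fbar adj K (DualSch.isCoh_HD hKd) c₀ hK i
  have hq' : DCoh.IsQCohD ((DCoh.RSheafHom C1).obj (a.obj K).obj) := fun i =>
    ((Groth.Agent.S1116.result c.Xbar C1 b hC1 (a.obj K).obj m haK).1 i).1
  obtain ⟨eY⟩ := rightAdjoint_RSheafHom c.fbar hc adj C0 C1 hC0 ⟨e1⟩ K hq hq'
  let eM₂ : M ≅ (⟨(DCoh.RSheafHom C0).obj K.obj, hq⟩ : DCoh.DQCoh Y) :=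
    (DCoh.IsQCohD (X := Y)).fullyFaithfulι.preimageIso eMK.symm
  obtain ⟨eL⟩ := nonempty_lpull_open c.fbar c.j f c.fac N0
  obtain ⟨eR⟩ := nonempty_RSheafHom_restrict c.j C1 N'
    ⟨eN ≪≫ eL ≪≫ (DCoh.restrictD c.j).mapIso ((DCoh.Lpull c.fbar).mapIso e0.symm ≪≫ e1.symm)⟩ (a.obj K).obj
  exact ⟨(DCoh.restrictD c.j).mapIso ((DCoh.IsQCohD (X := c.Xbar)).ι.mapIso (a.mapIso eM₂) ≪≫ eY) ≪≫ eR⟩

end Groth.Agent.ShriekDual
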